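import Mathlib
import Cfsg.Agent.S4037
import Cfsg.Agent.Lib.Helper22.Basic

/-! Corollaries of Kazarin's theorem (S4037): solvability by prime-power class sizes. -/

set_option autoImplicit false

namespace Cfsg.Agent.Lib.Helper9.Kaz

universe u

theorem solvable_step {G : Type u} [Group G] [Finite G] {p : ℕ} (hp : p.Prime) {s : ℕ} (x : G)
    (hidx : (Subgroup.centralizer ({x} : Set G)).index ∣ p ^ s)
    (hq : Group.IsSolvable (G ⧸ Subgroup.normalClosure ({x} : Set G))) : Group.IsSolvable G := by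
  obtain ⟨k, -, hk⟩ := (Nat.dvd_prime_pow hp).1 hidx
  have h1 : Group.IsSolvable ↥(Subgroup.normalClosure ({x} : Set G)) :=
    Cfsg.Agent.S4037.result x hp k
      (by rw [Cfsg.Agent.Lib.Helper22.ncard_carrier_eq_index_centralizer, hk])
  exact (Group.isSolvable_iff_subgroup_quotient _).2 ⟨h1, hq⟩

theorem card_quotient_lt {G : Type u} [Group G] [Finite G] (N : Subgroup G) (hN : N ≠ ⊥) :
    Nat.card (G ⧸ N) < Nat.card G := by
  have h1 := Subgroup.card_mul_index N
  rw [Subgroup.index_eq_card] at h1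
  have h2 : 1 < Nat.card N := by
    rw [Subgroup.one_lt_card_iff_ne_bot]; exact hN
  have h3 : 0 < Nat.card (G ⧸ N) := Nat.card_pos
  nlinarith

theorem normalClosure_ne_bot {G : Type u} [Group G] (x : G) (hx : x ≠ 1) :
    Subgroup.normalClosure ({x} : Set G) ≠ ⊥ := by
  intro h
  have : x ∈ Subgroup.normalClosure ({x} : Set G) := Subgroup.subset_normalClosure rfl
  rw [h, Subgroup.mem_bot] at this
  exact hx this

theorem solvable_of_card_prime_pow {G : Type u} [Group G] [Finite G] {p : ℕ} (hp : p.Prime) {s : ℕ}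
    (h : Nat.card G ∣ p ^ s) : Group.IsSolvable G := by
  obtain ⟨k, -, hk⟩ := (Nat.dvd_prime_pow hp).1 h
  haveI : Fact p.Prime := ⟨hp⟩
  have hpg : IsPGroup p G := IsPGroup.of_card hk
  haveI := hpg.isNilpotent
  infer_instance

/-- A finite group with an abelian subgroup of prime-power index is solvable. -/
theorem solvable_of_abelian_index_aux {p : ℕ} (hp : p.Prime) (s : ℕ) :
    ∀ (n : ℕ) (G : Type u) [Group G] [Finite G], Nat.card G = n →
    ∀ B : Subgroup G, (∀ x ∈ B, ∀ y ∈ B, x * y = y * x) → B.index ∣ p ^ s →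
      Group.IsSolvable G := by
  intro n
  induction n using Nat.strong_induction_on with
  | _ n ih =>
  intro G _ _ hn B hB hidx
  by_cases hbot : B = ⊥
  · subst hbot
    rw [Subgroup.index_bot] at hidx
    exact solvable_of_card_prime_pow hp hidx
  · obtain ⟨b, hbB, hb1⟩ := (Subgroup.ne_bot_iff_exists_ne_one).1 hbot |>.imp
      (fun b hb => hb) |> fun ⟨b, hb⟩ => (⟨(b : G), b.2, fun h => hb (Subtype.ext h)⟩ :
        ∃ b : G, b ∈ B ∧ b ≠ 1)
    have hle : B ≤ Subgroup.centralizer ({b} : Set G) := by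
      intro x hx
      rw [Subgroup.mem_centralizer_singleton_iff]
      exact hB x hx b hbB
    apply solvable_step hp b ((Subgroup.index_dvd_of_le hle).trans hidx)
    have hlt := card_quotient_lt _ (normalClosure_ne_bot b hb1)
    rw [hn] at hlt
    refine ih _ hlt _ rfl (B.map (QuotientGroup.mk' _)) ?_
      ((Subgroup.index_map_dvd B (QuotientGroup.mk'_surjective _)).trans hidx)
    rintro _ ⟨x, hx, rfl⟩ _ ⟨y, hy, rfl⟩
    rw [← map_mul, ← map_mul, hB x hx y hy]

theorem solvable_of_abelian_index {G : Type u} [Group G] [Finite G] {p : ℕ} (hp : p.Prime) (s : ℕ)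
    (B : Subgroup G) (hB : ∀ x ∈ B, ∀ y ∈ B, x * y = y * x) (hidx : B.index ∣ p ^ s) :
    Group.IsSolvable G :=
  solvable_of_abelian_index_aux hp s _ G rfl B hB hidx

end Cfsg.Agent.Lib.Helper9.Kaz
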