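import Mathlib

set_option autoImplicit false

namespace Cfsg.Agent.Lib.Helper9

variable {G : Type*} [Group G]

theorem mem_normalizer_inf {H K : Subgroup G} {n : G} (hH : n ∈ Subgroup.normalizer (H : Set G))
    (hK : n ∈ Subgroup.normalizer (K : Set G)) :
    n ∈ Subgroup.normalizer ((H ⊓ K : Subgroup G) : Set G) := by
  have h1 := Subgroup.mem_normalizer_iff.1 hH
  have h2 := Subgroup.mem_normalizer_iff.1 hK
  rw [Subgroup.mem_normalizer_iff]
  intro g
  rw [Subgroup.mem_inf, Subgroup.mem_inf, ← h1 g, ← h2 g]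

theorem le_normalizer_inf {A H K : Subgroup G} (hH : A ≤ Subgroup.normalizer (H : Set G))
    (hK : A ≤ Subgroup.normalizer (K : Set G)) :
    A ≤ Subgroup.normalizer ((H ⊓ K : Subgroup G) : Set G) :=
  fun _ hn => mem_normalizer_inf (hH hn) (hK hn)

/-- normalizers grow in `q`-groups -/
theorem normalizer_growth [Finite G] {q : ℕ} [Fact q.Prime] {D Q : Subgroup G} (hQ : IsPGroup q Q)
    (hDQ : D ≤ Q) (hne : D ≠ Q) : ∃ x ∈ Q, x ∈ Subgroup.normalizer (D : Set G) ∧ x ∉ D := by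
  have hnil : Group.IsNilpotent Q := hQ.isNilpotent
  have hnc := Group.normalizerCondition_of_isNilpotent (G := Q)
  have hlt : D.subgroupOf Q < ⊤ := by
    rw [lt_top_iff_ne_top]
    intro h
    rw [Subgroup.subgroupOf_eq_top] at h
    exact hne (le_antisymm hDQ h)
  have h2 := hnc _ hlt
  obtain ⟨x, hx, hxU⟩ := SetLike.exists_of_lt h2
  refine ⟨x, x.2, ?_, fun h => hxU (Subgroup.mem_subgroupOf.2 h)⟩
  rw [Subgroup.mem_normalizer_iff] at hx ⊢
  intro y
  constructor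
  · intro hy
    have := (hx ⟨y, hDQ hy⟩).1 (Subgroup.mem_subgroupOf.2 hy)
    exact Subgroup.mem_subgroupOf.1 this
  · intro hy
    have hyQ : y ∈ Q := by
      have : y = (x:G)⁻¹ * ((x:G) * y * (x:G)⁻¹) * x := by group
      rw [this]
      exact Q.mul_mem (Q.mul_mem (Q.inv_mem x.2) (hDQ hy)) x.2
    have := (hx ⟨y, hyQ⟩).2 (Subgroup.mem_subgroupOf.2 hy)
    exact Subgroup.mem_subgroupOf.1 this

theorem not_dvd_card_of_isPGroup [Finite G] {p q : ℕ} (hp : p.Prime) (hq : q.Prime) (hqp : q ≠ p)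
    {Q : Subgroup G} (hQ : IsPGroup q Q) : ¬ p ∣ Nat.card Q := by
  haveI : Fact q.Prime := ⟨hq⟩
  obtain ⟨k, hk⟩ := IsPGroup.iff_card.1 hQ
  rw [hk]
  intro h
  exact hqp ((Nat.prime_dvd_prime_iff_eq hp hq).1 (hp.dvd_of_dvd_pow h)).symm

theorem comm_of_isMulCommutative {S : Subgroup G} (hS : IsMulCommutative S) {a b : G}
    (ha : a ∈ S) (hb : b ∈ S) : a * b = b * a := by
  have := hS.is_comm.comm (⟨a, ha⟩ : S) ⟨b, hb⟩
  exact congrArg Subtype.val this

end Cfsg.Agent.Lib.Helper9
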